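/-
Checks for the octets of transpositions of Fi22.
-/
import Cfsg.Agent.Lib.CosetEnum.AutClass
import Cfsg.Agent.Lib.CosetEnum.Fi22Aut.Fun
import Cfsg.Agent.Lib.CosetEnum.Fi22Octet.Data

set_option autoImplicit false
set_option maxRecDepth 1000000

namespace CfsgLib.CosetEnum.Fi22Octet

/-- Adjacency in the diagram. -/
noncomputable def adjB (i j : ℕ) : Bool :=
  [(0, 1), (1, 2), (2, 3), (3, 4), (4, 5), (5, 6), (3, 7), (7, 8)].any fun p : ℕ × ℕ =>
    (Nat.beq p.1 i && Nat.beq p.2 j) || (Nat.beq p.1 j && Nat.beq p.2 i)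

/-- The interchange of the two arms of length two in the diagram of an octet. -/
def sw8 (i : ℕ) : ℕ := ([0, 8, 7, 3, 4, 5, 6, 2, 1] : List ℕ).getD i 9

/-- The members at two indices commute. -/
noncomputable def cmI (i j : ℕ) : Bool := Nat.beq (fld (orows.get i) j 1) 1

/-- The table of commuting members is right. -/
noncomputable def okRows : Bool :=
  allN 103 fun i => force i fun i => force (opts.getD i 0) fun q => Nat.blt q 3510 &&
    (owords.getD i []).all (fun x => Nat.blt x 9) &&
    Nat.beq (runT Fi3510.table 9 (owords.getD i []).reverse 0) q &&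
    allN 103 fun j => force j fun j => force (opts.getD j 0) fun r =>
      beqB (Nat.beq (conjMap Fi3510.table 9 Fi22Aut.zf (owords.getD i []) r) r) (cmI i j)

theorem rows_ok : okRows = true := by decide +kernel

theorem opts_ok : opts.length = 103 ∧ opts.Nodup ∧ (∀ x < 9, opts.getD x 0 = Fi22Aut.genPts.getD x 0) ∧
    (∀ p ∈ cand, ∀ i ∈ p.2, i < 103) ∧ cand.map Prod.fst = [3, 4, 7, 8] := by decide +kernel

/-- The first four members of the configuration. -/
def pre4 : List (ℕ × ℕ) := [(2, 6), (5, 88), (6, 154), (1, 2)]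

/-- Every candidate is listed. -/
noncomputable def okCover : Bool :=
  cand.all fun p => force (Fi22Aut.genPts.getD p.1 0) fun q => allN 3510 fun r => force r fun r =>
    (!(patOK Fi3510.table 9 pre4 q r)) || p.2.any fun i => Nat.beq (opts.getD i 0) r

theorem cover_ok : okCover = true := by decide +kernel

/-- The index at a node of a completion. -/
noncomputable def fIdx (a b c d x : ℕ) : ℕ := ([0, 1, 2, a, b, 5, 6, c, d] : List ℕ).getD x 0

/-- The diagram holds between two nodes. -/
noncomputable def okPair (i j : ℕ) (u v : ℕ) : Bool := beqB (cmI u v) (!(adjB i j)) && !(Nat.beq u v)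

/-- A completion has an extension at one of the two ends. -/
noncomputable def okExt (a b c d : ℕ) : Bool :=
  (List.range 103).any fun u => force u fun u =>
    (allN 8 fun i => okPair 0 (Nat.succ i) u (fIdx a b c d (Nat.succ i))) ||
    (allN 8 fun i => okPair 0 (Nat.succ i) u (fIdx a b c d (sw8 (Nat.succ i))))

/-- The candidates for a place. -/
def candAt (k : ℕ) : List ℕ := (cand.getD k (0, [])).2

/-- Every completion with the pattern has an extension. -/
noncomputable def okTuples : Bool :=
  (candAt 0).all fun a => (candAt 1).all fun b => (!(okPair 3 4 a b)) ||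
    (candAt 2).all fun c => (!(okPair 3 7 a c && okPair 4 7 b c)) ||
      (candAt 3).all fun d => (!(okPair 3 8 a d && okPair 4 8 b d && okPair 7 8 c d)) || okExt a b c d

theorem tuples_ok : okTuples = true := by decide +kernel

theorem prod_ok : Fi22Aut.cnts.prod = 2 * 64561751654400 ∧
    (Fi22Aut.ord.take 4).map (fun x => (x, Fi22Aut.genPts.getD x 0)) = pre4 := by decide +kernel

theorem sw8_ok : ∀ x < 9, 1 ≤ x → 1 ≤ sw8 x ∧ sw8 x < 9 ∧ sw8 (sw8 x) = x ∧
    ∀ y < 9, 1 ≤ y → adjB (sw8 x) (sw8 y) = adjB x y := by decide +kernel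

end CfsgLib.CosetEnum.Fi22Octet
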