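/-
An octet of transpositions of Fi22 on the diagram of the stabiliser of type O7(3) is, up to the interchange of
its two short arms, the image of the generators under an automorphism.
-/
import Cfsg.Agent.Lib.CosetEnum.AutTrans
import Cfsg.Agent.Lib.CosetEnum.Fi22Aut.Main
import Cfsg.Agent.Lib.CosetEnum.Fi22Octet.Check

set_option autoImplicit false
set_option maxRecDepth 1000000

namespace CfsgLib.CosetEnum.Fi22Octet

open Cfsg CfsgLib.CosetEnum

theorem rows_spec {i : ℕ} (hi : i < 103) : opts.getD i 0 < 3510 ∧ (∀ x ∈ owords.getD i [], x < 9) ∧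
    runT Fi3510.table 9 (owords.getD i []).reverse 0 = opts.getD i 0 ∧
    ∀ j < 103, (conjMap Fi3510.table 9 Fi22Aut.zf (owords.getD i []) (opts.getD j 0) = opts.getD j 0 ↔
      cmI i j = true) := by
  have h := allN_spec rows_ok i hi
  simp only [force_eq, Bool.and_eq_true, blt_iff, List.all_eq_true] at h
  obtain ⟨⟨⟨h1, h2⟩, h3⟩, h4⟩ := h
  refine ⟨h1, h2, Nat.eq_of_beq_eq_true h3, fun j hj => ?_⟩
  have h5 := allN_spec h4 j hj
  simp only [force_eq, beqB_iff] at h5
  rw [← h5]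
  exact ⟨fun e => by rw [e]; exact Nat.beq_refl _, Nat.eq_of_beq_eq_true⟩

/-- The member at an index. -/
noncomputable def el (i : ℕ) : presFi22.Grp :=
  ((owords.getD i []).map presFi22.σ).prod * Fi22Aut.tz * (((owords.getD i []).map presFi22.σ).prod)⁻¹

theorem el_pt {i : ℕ} (hi : i < 103) : Fi3510.cert.IsPt Fi3510.hlt Fi22Aut.tz (el i) ⟨opts.getD i 0, (rows_spec hi).1⟩ :=
  Fi3510.cert.isPt_word Fi3510.hlt Fi22Aut.hid _ (rows_spec hi).2.1 _ (rows_spec hi).2.2.1

theorem el_comm {i j : ℕ} (hi : i < 103) (hj : j < 103) : Commute (el i) (el j) ↔ cmI i j = true := by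
  have h := Fi3510.cert.realises_conj Fi3510.hlt Fi22Aut.hid Fi22Aut.real_t _ (rows_spec hi).2.1
    ⟨opts.getD j 0, (rows_spec hj).1⟩
  rw [← (rows_spec hi).2.2.2 j hj]
  exact ((Fi3510.cert.isPt_fix Fi3510.hlt Fi22Aut.stabIsCent (el_pt hj) _).symm.trans Fin.ext_iff).trans
    ⟨fun e => h.symm.trans e, fun e => h.trans e⟩

theorem el_eq {i j : ℕ} (hi : i < 103) (hj : j < 103) (h : el i = el j) : i = j := by
  have hp := el_pt hi
  rw [h] at hp
  have e : opts.getD i 0 = opts.getD j 0 :=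
    congrArg Fin.val (Fi3510.cert.isPt_unique' Fi3510.hlt Fi22Aut.stabIsCent hp (el_pt hj))
  rw [List.getD_eq_getElem _ _ (opts_ok.1.symm ▸ hi), List.getD_eq_getElem _ _ (opts_ok.1.symm ▸ hj)] at e
  exact (List.Nodup.getElem_inj_iff opts_ok.2.1).mp e

theorem el_gen {x : ℕ} (hx : x < 9) : el x = presFi22.σ x := by
  refine Fi3510.cert.isPt_unique Fi3510.hlt Fi22Aut.stabIsCent (el_pt (by omega)) ?_
  rw [show (⟨opts.getD x 0, (rows_spec (show x < 103 by omega)).1⟩ : Fin Fi3510.cert.T.n) =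
    ⟨Fi22Aut.qOf x, Fi22Aut.qOf_lt x hx⟩ from Fin.ext (opts_ok.2.2.1 x hx)]
  exact Fi22Aut.pt_gen x hx

theorem gen_pat : ∀ x < 9, ∀ y < 9, cmI x y = !(adjB x y) := by decide +kernel

theorem gen_comm {x y : ℕ} (hx : x < 9) (hy : y < 9) :
    Commute (presFi22.σ x) (presFi22.σ y) ↔ adjB x y = false := by
  rw [← el_gen hx, ← el_gen hy, el_comm (by omega) (by omega), gen_pat x hx y hy, Bool.not_eq_true']

theorem aut_tuple {pre rest : List (ℕ × ℕ)} (he : Fi22Aut.conf = pre ++ rest) {z : ℕ → presFi22.Grp}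
    (hz : Cert.Pat Fi22Aut.tz pre z) : ∃ α : MulAut presFi22.Grp, ∀ a ∈ pre, α (presFi22.σ a.1) = z a.1 := by
  haveI : Finite presFi22.Grp := Cfsg.Agent.S1696.upper.1
  refine Fi3510.cert.exists_aut_tuple Fi3510.hlt Fi22Aut.hid Fi22Aut.stabIsCent Fi22Aut.aut_mem Fi22Aut.config
    Fi22Aut.autFix_bot Fi22Aut.counts_ok ?_ pre rest he hz
  rw [prod_ok.1]
  have h := (Cfsg.Inn presFi22.Grp).card_mul_index
  have hout : (Cfsg.Inn presFi22.Grp).index = 2 := Fi22Aut.card_out
  have hI : Nat.card (Cfsg.Inn presFi22.Grp) = 64561751654400 := by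
    rw [← Fi22Aut.card_grp]
    refine (Nat.card_congr (MonoidHom.ofInjective (f := (MulAut.conj : presFi22.Grp →* MulAut presFi22.Grp)) ?_).toEquiv).symm
    rw [injective_iff_map_eq_one]
    intro g hg
    refine Fi22Aut.central_one fun a _ => ?_
    have h := DFunLike.congr_fun hg (presFi22.σ a.1)
    simp only [MulAut.conj_apply, MulAut.one_apply] at h
    exact mul_inv_eq_iff_eq_mul.mp h
  rw [← h, hout, hI, mul_comm]

theorem pre4_pat : ∀ a ∈ pre4, a.1 < 9 ∧ 1 ≤ a.1 := by decide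

theorem fIdx_lt {a b c d : ℕ} (ha : a < 103) (hb : b < 103) (hc : c < 103) (hd : d < 103) (x : ℕ) :
    fIdx a b c d x < 103 := by
  rcases x with _|_|_|_|_|_|_|_|_|x <;> simp [fIdx] <;> omega

/-- **Octets extend to the diagram of the generators.** -/
theorem octet {y : ℕ → presFi22.Grp} (hmem : ∀ x, 1 ≤ x → x < 9 → y x ∈ conjugatesOf Fi22Aut.tz)
    (hinj : ∀ x, 1 ≤ x → x < 9 → ∀ x', 1 ≤ x' → x' < 9 → y x = y x' → x = x')
    (hcomm : ∀ x, 1 ≤ x → x < 9 → ∀ x', 1 ≤ x' → x' < 9 → (Commute (y x) (y x') ↔ adjB x x' = false)) :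
    ∃ α : MulAut presFi22.Grp, (∀ x, 1 ≤ x → x < 9 → α (presFi22.σ x) = y x) ∨
      (∀ x, 1 ≤ x → x < 9 → α (presFi22.σ x) = y (sw8 x)) := by
  haveI : Finite presFi22.Grp := Cfsg.Agent.S1696.upper.1
  have hconf4 : Fi22Aut.conf.take 4 = pre4 := by
    rw [Fi22Aut.conf, ← List.map_take]; exact prod_ok.2
  obtain ⟨α, hα⟩ := aut_tuple (pre := pre4) (rest := Fi22Aut.conf.drop 4) (z := y)
    (by rw [← hconf4, List.take_append_drop])
    ⟨fun a ha => hmem _ (pre4_pat a ha).2 (pre4_pat a ha).1,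
      fun a ha b hb e => by
        have := hinj _ (pre4_pat a ha).2 (pre4_pat a ha).1 _ (pre4_pat b hb).2 (pre4_pat b hb).1 e
        exact (show ∀ a ∈ pre4, ∀ b ∈ pre4, a.1 = b.1 → a = b by decide) a ha b hb this,
      fun a ha b hb => (hcomm _ (pre4_pat a ha).2 (pre4_pat a ha).1 _ (pre4_pat b hb).2 (pre4_pat b hb).1).trans
        (gen_comm (pre4_pat a ha).1 (pre4_pat b hb).1).symm⟩
  set z : ℕ → presFi22.Grp := fun x => α.symm (y x) with hz
  have zmem : ∀ x, 1 ≤ x → x < 9 → z x ∈ conjugatesOf Fi22Aut.tz := by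
    intro x h1 h2
    obtain ⟨u, hu⟩ := isConj_iff.mp (hmem x h1 h2)
    obtain ⟨v, hv⟩ := isConj_iff.mp (Fi22Aut.aut_mem α.symm)
    refine isConj_iff.mpr ⟨α.symm u * v, ?_⟩
    show _ = α.symm (y x)
    rw [← hu, map_mul, map_mul, map_inv, ← hv]
    group
  have zinj : ∀ x, 1 ≤ x → x < 9 → ∀ x', 1 ≤ x' → x' < 9 → z x = z x' → x = x' :=
    fun x h1 h2 x' h3 h4 e => hinj x h1 h2 x' h3 h4 (α.symm.injective e)
  have zcomm : ∀ x, 1 ≤ x → x < 9 → ∀ x', 1 ≤ x' → x' < 9 → (Commute (z x) (z x') ↔ adjB x x' = false) := by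
    intro x h1 h2 x' h3 h4
    rw [← hcomm x h1 h2 x' h3 h4]
    show α.symm (y x) * α.symm (y x') = α.symm (y x') * α.symm (y x) ↔ _
    rw [← map_mul, ← map_mul, EmbeddingLike.apply_eq_iff_eq]
    rfl
  have zpre : ∀ a ∈ pre4, z a.1 = presFi22.σ a.1 := fun a ha => α.symm_apply_eq.mpr (hα a ha).symm
  -- the four other places
  have hidx : ∀ k < 4, ∀ q, (cand.getD k (0, [])).1 = q → 1 ≤ q ∧ q < 9 ∧ ∃ i ∈ candAt k, z q = el i := by
    intro k hk q hq
    have hq' : 1 ≤ q ∧ q < 9 ∧ (cand.getD k (0, [])) ∈ cand ∧ ∀ a ∈ pre4, a.1 ≠ q := by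
      subst hq
      interval_cases k <;> decide +kernel
    obtain ⟨h1, h2, hc, hne⟩ := hq'
    refine ⟨h1, h2, ?_⟩
    obtain ⟨r, hr⟩ := Fi3510.cert.isPt_of_mem Fi3510.hlt (zmem q h1 h2)
    have hqc : (q, Fi22Aut.qOf q) ∈ Fi22Aut.conf := Fi22Aut.conf_all q h2
    have hpat : patOK Fi3510.table 9 pre4 (Fi22Aut.qOf q) (r : ℕ) = true := by
      refine (Fi3510.cert.patOK_iff pre4 (Fi22Aut.qOf q) (r : ℕ)).mpr fun b hb => ?_
      have hbL : b ∈ Fi22Aut.conf := by rw [← List.take_append_drop 4 Fi22Aut.conf, hconf4]; simp [hb]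
      refine ⟨fun e => ?_, (Fi3510.cert.pat_iff Fi3510.hlt Fi22Aut.hid Fi22Aut.stabIsCent Fi22Aut.config
        (a := (q, Fi22Aut.qOf q)) hqc hbL hr).mpr ?_⟩
      · rw [show r = ⟨b.2, (Fi22Aut.config.lt b hbL).2⟩ from Fin.ext e] at hr
        have e' := (Fi3510.cert.isPt_unique Fi3510.hlt Fi22Aut.stabIsCent hr (Fi22Aut.config.pt b hbL)).trans
          (zpre b hb).symm
        exact hne b hb (zinj q h1 h2 _ (pre4_pat b hb).2 (pre4_pat b hb).1 e').symm
      · rw [← zpre b hb, zcomm q h1 h2 _ (pre4_pat b hb).2 (pre4_pat b hb).1, zpre b hb,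
          gen_comm h2 (pre4_pat b hb).1]
    have h := List.all_eq_true.mp cover_ok _ hc
    rw [force_eq, hq] at h
    have h' := allN_spec h r r.2
    simp only [force_eq, Bool.or_eq_true, Bool.not_eq_true', List.any_eq_true] at h'
    rcases h' with h' | ⟨i, hi, hir⟩
    · rw [show Fi22Aut.genPts.getD q 0 = Fi22Aut.qOf q from rfl, hpat] at h'
      exact absurd h' (by decide)
    · refine ⟨i, hi, ?_⟩
      have hi' : i < 103 := opts_ok.2.2.2.1 _ hc i hi
      refine Fi3510.cert.isPt_unique Fi3510.hlt Fi22Aut.stabIsCent hr ?_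
      rw [show r = ⟨opts.getD i 0, (rows_spec hi').1⟩ from Fin.ext (Nat.eq_of_beq_eq_true hir).symm]
      exact el_pt hi'
  obtain ⟨-, -, a, hac, za⟩ := hidx 0 (by norm_num) 3 (by decide +kernel)
  obtain ⟨-, -, b, hbc, zb⟩ := hidx 1 (by norm_num) 4 (by decide +kernel)
  obtain ⟨-, -, c, hcc, zc⟩ := hidx 2 (by norm_num) 7 (by decide +kernel)
  obtain ⟨-, -, d, hdc, zd⟩ := hidx 3 (by norm_num) 8 (by decide +kernel)
  have hlt : ∀ k < 4, ∀ i ∈ candAt k, i < 103 := by
    intro k hk i hi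
    refine opts_ok.2.2.2.1 (cand.getD k (0, [])) ?_ i hi
    interval_cases k <;> decide +kernel
  have ha := hlt 0 (by norm_num) a hac
  have hb := hlt 1 (by norm_num) b hbc
  have hc := hlt 2 (by norm_num) c hcc
  have hd := hlt 3 (by norm_num) d hdc
  have zf : ∀ x, 1 ≤ x → x < 9 → z x = el (fIdx a b c d x) := by
    intro x h1 h2
    interval_cases x
    · exact (zpre (1, 2) (by decide)).trans (el_gen (by norm_num)).symm
    · exact (zpre (2, 6) (by decide)).trans (el_gen (by norm_num)).symm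
    · exact za
    · exact zb
    · exact (zpre (5, 88) (by decide)).trans (el_gen (by norm_num)).symm
    · exact (zpre (6, 154) (by decide)).trans (el_gen (by norm_num)).symm
    · exact zc
    · exact zd
  have pair : ∀ x, 1 ≤ x → x < 9 → ∀ x', 1 ≤ x' → x' < 9 → x ≠ x' →
      okPair x x' (fIdx a b c d x) (fIdx a b c d x') = true := by
    intro x h1 h2 x' h3 h4 hne
    have hh := zcomm x h1 h2 x' h3 h4
    rw [zf x h1 h2, zf x' h3 h4, el_comm (fIdx_lt ha hb hc hd x) (fIdx_lt ha hb hc hd x')] at hh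
    simp only [okPair, Bool.and_eq_true, Bool.not_eq_true', beqB_iff]
    refine ⟨?_, Bool.eq_false_iff.mpr fun e => hne (zinj x h1 h2 x' h3 h4 ?_)⟩
    · revert hh; cases cmI (fIdx a b c d x) (fIdx a b c d x') <;> cases adjB x x' <;> simp
    rw [zf x h1 h2, zf x' h3 h4, Nat.eq_of_beq_eq_true e]
  have key : okExt a b c d = true := by
    have h := List.all_eq_true.mp (List.all_eq_true.mp tuples_ok a hac) b hbc
    simp only [Bool.or_eq_true, Bool.not_eq_true', List.all_eq_true] at h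
    have p34 : okPair 3 4 a b = true := pair 3 (by norm_num) (by norm_num) 4 (by norm_num) (by norm_num) (by norm_num)
    have h1 := (h.resolve_left (by rw [p34]; decide)) c hcc
    have p37 : okPair 3 7 a c = true := pair 3 (by norm_num) (by norm_num) 7 (by norm_num) (by norm_num) (by norm_num)
    have p47 : okPair 4 7 b c = true := pair 4 (by norm_num) (by norm_num) 7 (by norm_num) (by norm_num) (by norm_num)
    have h2 := (h1.resolve_left (by rw [p37, p47]; decide)) d hdc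
    have p38 : okPair 3 8 a d = true := pair 3 (by norm_num) (by norm_num) 8 (by norm_num) (by norm_num) (by norm_num)
    have p48 : okPair 4 8 b d = true := pair 4 (by norm_num) (by norm_num) 8 (by norm_num) (by norm_num) (by norm_num)
    have p78 : okPair 7 8 c d = true := pair 7 (by norm_num) (by norm_num) 8 (by norm_num) (by norm_num) (by norm_num)
    exact h2.resolve_left (by rw [p38, p48, p78]; decide)
  rw [okExt, List.any_eq_true] at key
  obtain ⟨u, hu, key⟩ := key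
  rw [force_eq, Bool.or_eq_true] at key
  have hu' : u < 103 := List.mem_range.mp hu
  have finish_ : ∀ e : ℕ → ℕ, (∀ x, 1 ≤ x → x < 9 → 1 ≤ e x ∧ e x < 9) →
      (∀ x, 1 ≤ x → x < 9 → ∀ x', 1 ≤ x' → x' < 9 → e x = e x' → x = x') →
      (∀ x, 1 ≤ x → x < 9 → ∀ x', 1 ≤ x' → x' < 9 → adjB (e x) (e x') = adjB x x') →
      allN 8 (fun i => okPair 0 (Nat.succ i) u (fIdx a b c d (e (Nat.succ i)))) = true →
      ∃ β : MulAut presFi22.Grp, ∀ x, 1 ≤ x → x < 9 → β (presFi22.σ x) = y (e x) := by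
    intro e he einj eadj hall
    have hu0 : ∀ x, 1 ≤ x → x < 9 → (Commute (el u) (z (e x)) ↔ adjB 0 x = false) ∧ el u ≠ z (e x) := by
      intro x h1 h2
      obtain ⟨x, rfl⟩ : ∃ m, x = m + 1 := ⟨x - 1, by omega⟩
      have hh := allN_spec hall x (by omega)
      simp only [okPair, Bool.and_eq_true, Bool.not_eq_true', beqB_iff] at hh
      rw [zf _ (he _ h1 h2).1 (he _ h1 h2).2]
      refine ⟨?_, fun q => ?_⟩
      · rw [el_comm hu' (fIdx_lt ha hb hc hd _), hh.1, Bool.not_eq_true']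
      · exact (Nat.ne_of_beq_eq_false hh.2) (el_eq hu' (fIdx_lt ha hb hc hd _) q)
    let w : ℕ → presFi22.Grp := fun x => if x = 0 then el u else z (e x)
    have hlt9 : ∀ v ∈ Fi22Aut.conf, v.1 < 9 := fun v hv => (Fi22Aut.config.lt v hv).1
    obtain ⟨β, hβ⟩ := aut_tuple (pre := Fi22Aut.conf) (rest := []) (by simp) (z := w) (by
      refine ⟨fun v hv => ?_, fun v hv v' hv' q => ?_, fun v hv v' hv' => ?_⟩
      · show (if v.1 = 0 then el u else z (e v.1)) ∈ _
        split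
        · exact Fi3510.cert.isPt_mem Fi3510.hlt (el_pt hu')
        · rename_i hne
          exact zmem _ (he _ (by omega) (hlt9 v hv)).1 (he _ (by omega) (hlt9 v hv)).2
      · have hx : v.1 = v'.1 := by
          simp only [w] at q
          split at q <;> rename_i h1 <;> split at q <;> rename_i h2
          · omega
          · exact absurd q (hu0 _ (by omega) (hlt9 v' hv')).2
          · exact absurd q.symm (hu0 _ (by omega) (hlt9 v hv)).2
          · exact einj _ (by omega) (hlt9 v hv) _ (by omega) (hlt9 v' hv')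
              (zinj _ (he _ (by omega) (hlt9 v hv)).1 (he _ (by omega) (hlt9 v hv)).2 _
                (he _ (by omega) (hlt9 v' hv')).1 (he _ (by omega) (hlt9 v' hv')).2 q)
        exact (show ∀ v ∈ Fi22Aut.conf, ∀ v' ∈ Fi22Aut.conf, v.1 = v'.1 → v = v' by decide) v hv v' hv' hx
      · rw [gen_comm (hlt9 v hv) (hlt9 v' hv')]
        simp only [w]
        split <;> rename_i h1 <;> split <;> rename_i h2
        · rw [h1, h2]
          exact ⟨fun _ => by decide, fun _ => Commute.refl _⟩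
        · rw [h1]; exact (hu0 _ (by omega) (hlt9 v' hv')).1
        · rw [h2, Commute.symm_iff, (hu0 _ (by omega) (hlt9 v hv)).1,
            (show ∀ x < 9, adjB 0 x = adjB x 0 by decide +kernel) v.1 (hlt9 v hv)]
        · rw [zcomm _ (he _ (by omega) (hlt9 v hv)).1 (he _ (by omega) (hlt9 v hv)).2 _
            (he _ (by omega) (hlt9 v' hv')).1 (he _ (by omega) (hlt9 v' hv')).2,
            eadj _ (by omega) (hlt9 v hv) _ (by omega) (hlt9 v' hv')])
    refine ⟨α * β, fun x h1 h2 => ?_⟩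
    show α (β (presFi22.σ x)) = _
    rw [hβ (x, Fi22Aut.qOf x) (Fi22Aut.conf_all x h2)]
    show α (if x = 0 then el u else z (e x)) = _
    rw [if_neg (by omega)]
    exact α.apply_symm_apply _
  rcases key with key | key
  · obtain ⟨β, hβ⟩ := finish_ (fun x => x) (fun x h1 h2 => ⟨h1, h2⟩) (fun _ _ _ _ _ _ h => h) (fun _ _ _ _ _ _ => rfl) key
    exact ⟨β, Or.inl hβ⟩
  · obtain ⟨β, hβ⟩ := finish_ sw8 (fun x h1 h2 => ⟨(sw8_ok x h2 h1).1, (sw8_ok x h2 h1).2.1⟩)
      (fun x h1 h2 x' h3 h4 q => by rw [← (sw8_ok x h2 h1).2.2.1, q, (sw8_ok x' h4 h3).2.2.1])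
      (fun x h1 h2 x' h3 h4 => (sw8_ok x h2 h1).2.2.2 x' h4 h3) key
    exact ⟨β, Or.inr hβ⟩

end CfsgLib.CosetEnum.Fi22Octet
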